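import Cfsg.Prelude.Def_BaumannBlocks
import Mathlib.FieldTheory.Finite.Basic
import Mathlib.GroupTheory.SpecificGroups.Alternating
import Mathlib.LinearAlgebra.Matrix.Notation

/-!
Irreducibility of the natural modules occurring in blocks, and its translation to sections.
-/

set_option autoImplicit false

namespace Cfsg.Agent.Baumann

open Subgroup Matrix
open scoped commutatorElement

section SL2

variable {F : Type*} [Field F]

/-- An upper unitriangular matrix. -/
def upper (t : F) : SpecialLinearGroup (Fin 2) F := ⟨!![1, t; 0, 1], by simp⟩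

/-- A lower unitriangular matrix. -/
def lower (t : F) : SpecialLinearGroup (Fin 2) F := ⟨!![1, 0; t, 1], by simp⟩

/-- A diagonal matrix of determinant one. -/
def torus (a : F) (ha : a ≠ 0) : SpecialLinearGroup (Fin 2) F :=
  ⟨!![a, 0; 0, a⁻¹], by simp [ha]⟩

theorem coe_comm (A B : SpecialLinearGroup (Fin 2) F) :
    (⁅A, B⁆ : SpecialLinearGroup (Fin 2) F).val =
      A.val * B.val * A.val.adjugate * B.val.adjugate := rfl

theorem torus_comm_upper (a : F) (ha : a ≠ 0) (t : F) :
    ⁅torus a ha, upper t⁆ = upper ((a ^ 2 - 1) * t) := by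
  refine Subtype.ext ((coe_comm _ _).trans ?_)
  ext i j
  fin_cases i <;> fin_cases j <;>
    simp [torus, upper, Matrix.mul_apply, Fin.sum_univ_two,
      Matrix.adjugate_fin_two] <;> field_simp <;> ring

theorem torus_comm_lower (a : F) (ha : a ≠ 0) (t : F) :
    ⁅torus a ha, lower t⁆ = lower (((a⁻¹) ^ 2 - 1) * t) := by
  refine Subtype.ext ((coe_comm _ _).trans ?_)
  ext i j
  fin_cases i <;> fin_cases j <;>
    simp [torus, lower, Matrix.mul_apply, Fin.sum_univ_two,
      Matrix.adjugate_fin_two] <;> field_simp <;> ring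

theorem upper_comm_lower :
    ((⁅upper (1 : F), lower 1⁆ : SpecialLinearGroup (Fin 2) F) : Matrix (Fin 2) (Fin 2) F) =
      !![3, -1; 1, 0] := by
  refine (coe_comm _ _).trans ?_
  ext i j
  fin_cases i <;> fin_cases j <;>
    simp [upper, lower, Matrix.mul_apply, Fin.sum_univ_two,
      Matrix.adjugate_fin_two] <;> ring

variable [Fintype F]

/-- The natural module of the derived group of `SL₂(F)` is irreducible as an abelian group. -/
theorem eq_top_of_commutator_invariant (U : AddSubgroup (Fin 2 → F))
    (hU : ∀ g ∈ commutator (SpecialLinearGroup (Fin 2) F), ∀ v ∈ U,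
      (g : Matrix (Fin 2) (Fin 2) F).mulVec v ∈ U)
    {v : Fin 2 → F} (hv : v ∈ U) (hv0 : v ≠ 0) : U = ⊤ := by
  suffices h : ∀ x : F, ![x, 0] ∈ U ∧ ![0, x] ∈ U by
    refine top_le_iff.mp fun w _ => ?_
    have := U.add_mem (h (w 0)).1 (h (w 1)).2
    convert this using 1
    ext i
    fin_cases i <;> simp
  by_cases hlarge : ∃ a : F, a ≠ 0 ∧ a ^ 2 ≠ 1
  · obtain ⟨a, ha, ha2⟩ := hlarge
    have hc : a ^ 2 - 1 ≠ 0 := sub_ne_zero.mpr ha2
    have hc' : a⁻¹ ^ 2 - 1 ≠ 0 := sub_ne_zero.mpr (by rwa [inv_pow, ne_eq, inv_eq_one])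
    have hup : ∀ w ∈ U, ∀ t : F, ![t * w 1, 0] ∈ U := by
      intro w hw t
      have h1 := hU ⁅torus a ha, upper (t / (a ^ 2 - 1))⁆
        (commutator_mem_commutator (mem_top _) (mem_top _)) w hw
      rw [torus_comm_upper, mul_div_cancel₀ _ hc] at h1
      have h2 := U.sub_mem h1 hw
      convert h2 using 1
      ext i
      fin_cases i <;> simp [upper, Matrix.mulVec, dotProduct, Fin.sum_univ_two]
    have hlo : ∀ w ∈ U, ∀ t : F, ![0, t * w 0] ∈ U := by
      intro w hw t
      have h1 := hU ⁅torus a ha, lower (t / (a⁻¹ ^ 2 - 1))⁆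
        (commutator_mem_commutator (mem_top _) (mem_top _)) w hw
      rw [torus_comm_lower, mul_div_cancel₀ _ hc'] at h1
      have h2 := U.sub_mem h1 hw
      convert h2 using 1
      ext i
      fin_cases i <;> simp [lower, Matrix.mulVec, dotProduct, Fin.sum_univ_two]
    obtain ⟨w, hw, hw1⟩ : ∃ w ∈ U, w 1 ≠ 0 := by
      by_cases h1 : v 1 = 0
      · have h0 : v 0 ≠ 0 := fun h0 => hv0 (by ext i; fin_cases i <;> simpa)
        exact ⟨_, hlo v hv 1, by simpa using h0⟩
      · exact ⟨v, hv, h1⟩
    have hx : ∀ x : F, ![x, 0] ∈ U := fun x => by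
      simpa [div_mul_cancel₀ _ hw1] using hup w hw (x / w 1)
    exact fun x => ⟨hx x, by simpa using hlo _ (hx 1) x⟩
  · push Not at hlarge
    have hcase : ∀ x : F, x = 0 ∨ x = 1 ∨ x = -1 := fun x => by
      by_cases hx : x = 0
      · exact Or.inl hx
      · exact Or.inr (sq_eq_one_iff.mp (hlarge x hx))
    have h23 : (2 : F) = 0 ∨ (3 : F) = 0 := by
      rcases hcase 2 with h | h | h
      · exact Or.inl h
      · exact absurd (by linear_combination h : (1 : F) = 0) one_ne_zero
      · exact Or.inr (by linear_combination h)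
    have hneg : ∀ (x : F) (w : Fin 2 → F), w ∈ U → x • w ∈ U := by
      intro x w hw
      rcases hcase x with h | h | h <;> subst h
      · simpa using U.zero_mem
      · simpa using hw
      · simpa using U.neg_mem hw
    set g := ⁅upper (1 : F), lower (1 : F)⁆ with hg
    have hgv := hU g (commutator_mem_commutator (mem_top _) (mem_top _)) v hv
    rw [hg, upper_comm_lower] at hgv
    set w := (!![3, -1; 1, 0] : Matrix (Fin 2) (Fin 2) F).mulVec v with hw
    have hw0 : w 0 = 3 * v 0 - v 1 := by
      simp [hw, Matrix.mulVec, dotProduct, Fin.sum_univ_two]; ring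
    have hw1 : w 1 = v 0 := by simp [hw, Matrix.mulVec, dotProduct, Fin.sum_univ_two]
    set d := v 0 * w 1 - v 1 * w 0 with hd
    have hd0 : d ≠ 0 := by
      rw [hd, hw0, hw1]
      intro hd'
      have hnz : v 0 ≠ 0 ∨ v 1 ≠ 0 := by
        by_contra h
        push Not at h
        exact hv0 (by ext i; fin_cases i <;> simp [h.1, h.2])
      rcases hcase (v 0) with h0 | h0 | h0 <;> rcases hcase (v 1) with h1 | h1 | h1 <;>
        rw [h0, h1] at hd' hnz <;> first
          | exact hnz.elim (fun h => h rfl) (fun h => h rfl)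
          | (rcases h23 with h | h <;>
              first
                | exact one_ne_zero (show (1 : F) = 0 by linear_combination hd')
                | exact one_ne_zero (show (1 : F) = 0 by linear_combination (-1 : F) * hd')
                | exact one_ne_zero (show (1 : F) = 0 by linear_combination hd' + h)
                | exact one_ne_zero (show (1 : F) = 0 by linear_combination hd' - h)
                | exact one_ne_zero (show (1 : F) = 0 by linear_combination (-1 : F) * hd' + h)
                | exact one_ne_zero (show (1 : F) = 0 by linear_combination (-1 : F) * hd' - h)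
                | exact one_ne_zero (show (1 : F) = 0 by linear_combination hd' + 2 * h)
                | exact one_ne_zero (show (1 : F) = 0 by linear_combination hd' - 2 * h)
                | exact one_ne_zero (show (1 : F) = 0 by linear_combination hd' - 2 * h + 0 * h0)
                | exact one_ne_zero (show (1 : F) = 0 by linear_combination (-1 : F) * hd' + 2 * h)
                | exact one_ne_zero (show (1 : F) = 0 by linear_combination (-1 : F) * hd' - 2 * h))
    intro x
    refine ⟨?_, ?_⟩
    · have := U.sub_mem (hneg (x / d * w 1) v hv) (hneg (x / d * v 1) w hgv)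
      convert this using 1
      ext i
      fin_cases i
      · simp only [Fin.zero_eta, cons_val_zero, Pi.sub_apply, Pi.smul_apply, smul_eq_mul]
        field_simp
        rw [hd]; ring
      · simp; ring
    · have := U.sub_mem (hneg (x / d * v 0) w hgv) (hneg (x / d * w 0) v hv)
      convert this using 1
      ext i
      fin_cases i
      · simp; ring
      · simp only [Fin.mk_one, cons_val_one, cons_val_fin_one, Pi.sub_apply, Pi.smul_apply,
          smul_eq_mul]
        field_simp
        rw [hd]; ring

end SL2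

section Alt

open Equiv Equiv.Perm

variable {m : ℕ}

theorem zmod_two_cases (x : ZMod 2) : x = 0 ∨ x = 1 := by
  revert x; decide

/-- The even weight module of the alternating group of odd degree is irreducible. -/
theorem mem_of_alternating_invariant (U : AddSubgroup (Fin (2 * m + 1) → ZMod 2))
    (hU : ∀ g ∈ alternatingGroup (Fin (2 * m + 1)), ∀ v ∈ U, (fun i => v (g⁻¹ i)) ∈ U)
    {v : Fin (2 * m + 1) → ZMod 2} (hv : v ∈ U) (hv0 : v ≠ 0) (hs : ∑ i, v i = 0)
    (u : Fin (2 * m + 1) → ZMod 2) (hu : ∑ i, u i = 0) : u ∈ U := by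
  classical
  have h20 : (2 : ZMod 2) = 0 := by decide
  have h11 : (1 : ZMod 2) + 1 = 0 := by decide
  set pr : Fin (2 * m + 1) → Fin (2 * m + 1) → (Fin (2 * m + 1) → ZMod 2) :=
    fun a b => Pi.single a 1 + Pi.single b 1 with hpr
  obtain ⟨i, hi⟩ : ∃ i, v i = 1 := by
    by_contra h
    push Not at h
    exact hv0 (funext fun i => (zmod_two_cases (v i)).resolve_right (h i))
  obtain ⟨j, hj⟩ : ∃ j, v j = 0 := by
    by_contra h
    push Not at h
    have h1 : ∀ i, v i = 1 := fun i => (zmod_two_cases (v i)).resolve_left (h i)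
    rw [Finset.sum_congr rfl fun i _ => h1 i, Finset.sum_const, Finset.card_univ, Fintype.card_fin,
      nsmul_one, Nat.cast_add, Nat.cast_mul] at hs
    simp [h20] at hs
  have hij : i ≠ j := fun h => by rw [h, hj] at hi; exact zero_ne_one hi
  obtain ⟨k, hki, hkj⟩ : ∃ k, k ≠ i ∧ k ≠ j := by
    by_contra h
    push Not at h
    have hcard : Fintype.card (Fin (2 * m + 1)) ≤ ({i, j} : Finset _).card :=
      Finset.card_le_card (s := Finset.univ) fun x _ => by
        by_cases hxi : x = i
        · simp [hxi]
        · simp [h x hxi]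
    rw [Fintype.card_fin, Finset.card_pair hij] at hcard
    have : m = 0 := by omega
    subst this
    exact hij (Fin.ext (by omega))
  have h3 : ∀ {a b c : Fin (2 * m + 1)}, a ≠ b → a ≠ c → b ≠ c →
      swap a b * swap a c ∈ alternatingGroup (Fin (2 * m + 1)) := fun hab hac hbc =>
    (isThreeCycle_swap_mul_swap_same hab hac hbc).mem_alternatingGroup
  have hval : ∀ {a b c : Fin (2 * m + 1)}, a ≠ b → a ≠ c → b ≠ c → ∀ x,
      (swap a b * swap a c)⁻¹ x =
        if x = a then b else if x = b then c else if x = c then a else x := by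
    intro a b c hab hac hbc x
    rw [_root_.mul_inv_rev, swap_inv, swap_inv, Perm.mul_apply]
    by_cases hxa : x = a
    · subst hxa; rw [swap_apply_left, swap_apply_of_ne_of_ne hab.symm hbc]; simp
    by_cases hxb : x = b
    · subst hxb; rw [swap_apply_right, swap_apply_left]; simp [hxa]
    rw [swap_apply_of_ne_of_ne hxa hxb]
    by_cases hxc : x = c
    · subst hxc; rw [swap_apply_right]; simp [hxa, hxb]
    rw [swap_apply_of_ne_of_ne hxa hxc]; simp [hxa, hxb, hxc]
  have hw : v + (fun x => v ((swap j i * swap j k)⁻¹ x)) ∈ U :=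
    U.add_mem hv (hU _ (h3 hij.symm hkj.symm hki.symm) v hv)
  obtain ⟨a, b, hab, hpair⟩ : ∃ a b, a ≠ b ∧ pr a b ∈ U := by
    rcases zmod_two_cases (v k) with hk | hk
    · refine ⟨j, i, hij.symm, ?_⟩
      convert hw using 1
      ext x
      simp only [hpr, Pi.add_apply, hval hij.symm hkj.symm hki.symm x, Pi.single_apply]
      by_cases hxj : x = j
      · subst hxj; simp [hij.symm, hi, hj]
      by_cases hxi : x = i
      · subst hxi; simp [hij, hi, hk]
      by_cases hxk : x = k
      · subst hxk; simp [hki, hkj, hk, hj]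
      simp [hxj, hxi, hxk, ← two_mul, h20]
    · refine ⟨j, k, hkj.symm, ?_⟩
      convert hw using 1
      ext x
      simp only [hpr, Pi.add_apply, hval hij.symm hkj.symm hki.symm x, Pi.single_apply]
      by_cases hxj : x = j
      · subst hxj; simp [hkj.symm, hi, hj]
      by_cases hxi : x = i
      · subst hxi; simp [hij, hki.symm, hi, hk, h11]
      by_cases hxk : x = k
      · subst hxk; simp [hki, hkj, hk, hj]
      simp [hxj, hxi, hxk, ← two_mul, h20]
  have hcomm : ∀ a b, pr a b = pr b a := fun a b => add_comm _ _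
  have hmove : ∀ a b c, a ≠ b → c ≠ a → c ≠ b → pr a b ∈ U → pr b c ∈ U := by
    intro a b c hab hca hcb h
    convert hU _ (h3 hcb hca hab.symm) _ h using 1
    ext x
    simp only [hpr, Pi.add_apply, hval hcb hca hab.symm x, Pi.single_apply]
    by_cases hxc : x = c
    · subst hxc; simp [hca, hcb, hab, hca.symm, hcb.symm, hab.symm]
    by_cases hxa : x = a
    · subst hxa; simp [hca, hcb, hab, hca.symm, hcb.symm, hab.symm]
    by_cases hxb : x = b
    · subst hxb; simp [hca, hcb, hab, hca.symm, hcb.symm, hab.symm]
    simp [hxc, hxa, hxb]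
  have hall : ∀ c, c ≠ a → pr a c ∈ U := by
    intro c hca
    by_cases hcb : c = b
    · rwa [hcb]
    · exact hmove b a c hab.symm hcb hca (by rwa [hcomm])
  have hsum : u = ∑ x ∈ Finset.univ.erase a, u x • pr a x := by
    ext y
    simp only [hpr, Finset.sum_apply, Pi.smul_apply, Pi.add_apply, smul_eq_mul, Pi.single_apply,
      mul_add, Finset.sum_add_distrib, mul_ite, mul_one, mul_zero]
    have h1 : ∑ x ∈ Finset.univ.erase a, u x = u a := by
      have := Finset.add_sum_erase Finset.univ u (Finset.mem_univ a)
      rw [hu] at this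
      rw [← zero_add (u a), ← this, add_comm (u a), add_assoc, ← two_mul,
        h20, zero_mul, add_zero]
    by_cases hy : y = a
    · subst hy
      simp [h1]
    · simp [hy]
  rw [hsum]
  refine sum_mem fun x hx => ?_
  rcases zmod_two_cases (u x) with h | h <;> rw [h]
  · simpa using U.zero_mem
  · simpa using hall x (Finset.mem_erase.mp hx).1

end Alt

end Cfsg.Agent.Baumann
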