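import Cfsg.Agent.Baumann.Normal
import Cfsg.Agent.Baumann.Irreducible
import Cfsg.Agent.LocalStructure.CharP

/-!
Basic properties of blocks relative to the Baumann subgroup in groups of characteristic `p`.
-/

set_option autoImplicit false
set_option linter.unusedSectionVars false
set_option linter.style.haveILetI false

namespace Cfsg.Agent.Baumann

open Subgroup Cfsg
open scoped Pointwise commutatorElement

universe u

variable {G : Type u} [Group G] [Finite G] {p : ℕ} [Fact p.Prime]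

/-- For `E = O^p(E)` and a `p`-group `⁅P, E⁆ ≤ E` one has `⁅P, E⁆ ≤ ⁅P, E, E⁆`. -/
theorem commutator_le_commutator_commutator {P E : Subgroup G} (hEr : pResidualOf p E = E)
    (hK : ⁅P, E⁆ ≤ E) (hKp : IsPGroup p ↥⁅P, E⁆) : ⁅P, E⁆ ≤ ⁅⁅P, E⁆, E⁆ := by
  set K := ⁅P, E⁆ with hKdef
  set D := ⁅K, E⁆ with hD
  have hEK : E ≤ normalizer (K : Set G) := normalizer_commutator_ge_right P E
  have hED : E ≤ normalizer (D : Set G) := normalizer_commutator_ge_right K E
  haveI : (D.subgroupOf K).Normal := normal_subgroupOf_of_le_normalizer (hK.trans hED)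
  refine commutator_le.mpr fun x hx => ?_
  let f : ↥E →* ↥K ⧸ D.subgroupOf K :=
    MonoidHom.mk' (fun e => QuotientGroup.mk ⟨⁅x, (e : G)⁆, commutator_mem_commutator hx e.2⟩) ?_
  · have hker : pResidual p ↥E ≤ f.ker :=
      Fusion.pResidual_le_ker f (hKp.to_quotient _)
    intro e he
    have hmem : (⟨e, he⟩ : ↥E) ∈ f.ker := by
      refine hker ?_
      obtain ⟨e', he', hee⟩ : e ∈ pResidualOf p E := hEr.symm ▸ he
      rwa [show (⟨e, he⟩ : ↥E) = e' from Subtype.ext hee.symm]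
    rw [MonoidHom.mem_ker] at hmem
    have h1 : (⟨⁅x, e⁆, commutator_mem_commutator hx he⟩ : ↥K) ∈ D.subgroupOf K :=
      (QuotientGroup.eq_one_iff _).mp hmem
    exact h1
  · intro e e'
    rw [← QuotientGroup.mk_mul, QuotientGroup.eq_iff_div_mem, mem_subgroupOf]
    have hk : ⁅x, (e' : G)⁆ ∈ K := commutator_mem_commutator hx e'.2
    have h1 : ⁅⁅x, (e' : G)⁆, (e : G)⁆ ∈ D := commutator_mem_commutator hk e.2
    have hk1 : ⁅x, (e : G)⁆ ∈ K := commutator_mem_commutator hx e.2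
    have h2 := (mem_normalizer_iff.mp (hED (hK hk1)) _).mp (inv_mem h1)
    simp only [Subgroup.coe_div, Subgroup.coe_mul, MulMemClass.coe_mul]
    have heq : ⁅x, (e : G) * e'⁆ / (⁅x, (e : G)⁆ * ⁅x, (e' : G)⁆) =
        ⁅x, (e : G)⁆ * ⁅⁅x, (e' : G)⁆, (e : G)⁆⁻¹ * ⁅x, (e : G)⁆⁻¹ := by
      rw [div_eq_mul_inv]; group
    rw [heq]
    exact h2

theorem map_omegaOneCenter (g : G) (X : Subgroup G) :
    (omegaOneCenter p X).map (MulAut.conj g).toMonoidHom =
      omegaOneCenter p (X.map (MulAut.conj g).toMonoidHom) := by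
  have hi : Function.Injective (MulAut.conj g).toMonoidHom := (MulAut.conj g).injective
  rw [omegaOneCenter, omegaOneCenter, Thompson.omegaOne_map_of_injective hi, map_inf _ _ _ hi,
    map_centralizer_conj]

theorem normalizer_le_normalizer_omegaOneCenter (X : Subgroup G) :
    normalizer (X : Set G) ≤ normalizer (omegaOneCenter p X : Set G) := by
  intro g hg
  rw [mem_normalizer_iff_map_conj_eq] at hg ⊢
  exact (map_omegaOneCenter g X).trans (congrArg (omegaOneCenter p) hg)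

theorem omegaOneCenter_le (X : Subgroup G) : omegaOneCenter p X ≤ X :=
  (Thompson.omegaOne_le p _).trans inf_le_left

theorem omegaOneCenter_ea (X : Subgroup G) : IsElementaryAbelian p (omegaOneCenter p X) :=
  Thompson.omegaOne_centre_ea p X

theorem omegaOneCenter_comm (X : Subgroup G) :
    omegaOneCenter p X ≤ centralizer (X : Set G) :=
  (Thompson.omegaOne_le p _).trans inf_le_right

/-! ### Irreducible sections -/

theorem section_SL2 {F : Type} [Field F] [Fintype F] {E U U₀ U₁ : Subgroup G}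
    (h : ActsAsSL2OnSection F (commutator (Matrix.SpecialLinearGroup (Fin 2) F)) E U U₀)
    (h₁ : U₁ ≤ U) (hE : E ≤ normalizer (U₁ : Set G)) : U₁ ≤ U₀ ∨ U ≤ U₁ ⊔ U₀ := by
  obtain ⟨-, -, ρ, ψ, hρ, -, hker, hact⟩ := h
  by_cases hle : U₁ ≤ U₀
  · exact Or.inl hle
  right
  obtain ⟨x, hx1, hx0⟩ := SetLike.not_le_iff_exists.mp hle
  set M : AddSubgroup (Fin 2 → F) := Subgroup.toAddSubgroup' ((U₁.subgroupOf U).map ψ) with hM
  have hmem : ∀ v, v ∈ M ↔ Multiplicative.ofAdd v ∈ (U₁.subgroupOf U).map ψ := fun v => Iff.rfl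
  have htop := eq_top_of_commutator_invariant M ?_
    (v := Multiplicative.toAdd (ψ ⟨x, h₁ hx1⟩))
    ((hmem _).mpr ⟨⟨x, h₁ hx1⟩, hx1, rfl⟩) (fun h0 => hx0 ((hker _).mp (by
      simpa using congrArg Multiplicative.ofAdd h0)))
  · intro u hu
    obtain ⟨w, hw, hwu⟩ := (hmem (Multiplicative.toAdd (ψ ⟨u, hu⟩))).mp (htop ▸ AddSubgroup.mem_top _)
    have h0 : ((w⁻¹ * ⟨u, hu⟩ : ↥U) : G) ∈ U₀ := (hker _).mp (by
      rw [map_mul, map_inv, hwu]; simp)
    have := mul_mem (mem_sup_left (T := U₀) (show (w : G) ∈ U₁ from hw)) (mem_sup_right (S := U₁) h0)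
    simpa using this
  · rintro g hg v hv
    obtain ⟨w, hw, hwv⟩ := (hmem v).mp hv
    obtain ⟨e, rfl⟩ : g ∈ ρ.range := hρ.symm ▸ hg
    obtain ⟨w', hw', hact'⟩ := hact e w
    refine (hmem _).mpr ⟨w', ?_, ?_⟩
    · change (w' : G) ∈ U₁
      rw [hw']
      exact (mem_normalizer_iff.mp (hE e.2) _).mp hw
    · refine Multiplicative.toAdd.injective ?_
      rw [hact', hwv]
      rfl

theorem section_alt {m : ℕ} {E U U₀ U₁ : Subgroup G}
    (h : ActsAsOddPermModuleOnSection (2 * m + 1) (alternatingGroup (Fin (2 * m + 1))) E U U₀)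
    (h₁ : U₁ ≤ U) (hE : E ≤ normalizer (U₁ : Set G)) : U₁ ≤ U₀ ∨ U ≤ U₁ ⊔ U₀ := by
  obtain ⟨-, -, ρ, ψ, hρ, heven, -, hker, hact⟩ := h
  by_cases hle : U₁ ≤ U₀
  · exact Or.inl hle
  right
  obtain ⟨x, hx1, hx0⟩ := SetLike.not_le_iff_exists.mp hle
  set M : AddSubgroup (Fin (2 * m + 1) → ZMod 2) :=
    Subgroup.toAddSubgroup' ((U₁.subgroupOf U).map ψ) with hM
  have hmem : ∀ v, v ∈ M ↔ Multiplicative.ofAdd v ∈ (U₁.subgroupOf U).map ψ := fun v => Iff.rfl
  intro u hu
  have hin := mem_of_alternating_invariant M ?_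
    (v := Multiplicative.toAdd (ψ ⟨x, h₁ hx1⟩))
    ((hmem _).mpr ⟨⟨x, h₁ hx1⟩, hx1, rfl⟩) (fun h0 => hx0 ((hker _).mp (by
      simpa using congrArg Multiplicative.ofAdd h0))) (heven _)
    (Multiplicative.toAdd (ψ ⟨u, hu⟩)) (heven _)
  · obtain ⟨w, hw, hwu⟩ := (hmem _).mp hin
    have h0 : ((w⁻¹ * ⟨u, hu⟩ : ↥U) : G) ∈ U₀ := (hker _).mp (by
      rw [map_mul, map_inv, hwu]; simp)
    have := mul_mem (mem_sup_left (T := U₀) (show (w : G) ∈ U₁ from hw)) (mem_sup_right (S := U₁) h0)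
    simpa using this
  · rintro g hg v hv
    obtain ⟨w, hw, hwv⟩ := (hmem v).mp hv
    obtain ⟨e, rfl⟩ : g ∈ ρ.range := hρ.symm ▸ hg
    obtain ⟨w', hw', hact'⟩ := hact e w
    refine (hmem _).mpr ⟨w', ?_, ?_⟩
    · change (w' : G) ∈ U₁
      rw [hw']
      exact (mem_normalizer_iff.mp (hE e.2) _).mp hw
    · refine Multiplicative.toAdd.injective (funext fun i => ?_)
      rw [hact' i, hwv]
      rfl

/-! ### Blocks -/

variable {T : Sylow p G} {E : Subgroup G} (hE : IsBaumannBlock p (T : Subgroup G) E)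

include hE

theorem block_le_normalizer_W :
    E ≤ normalizer (omegaOneCenter p (pCoreOf p E) : Set G) := by
  rcases hE.2.2.2.2 with ⟨F, _, _, n, -, -, hW, -⟩ | ⟨-, m, -, hW, -⟩
  exacts [hW.1, hW.1]

theorem block_W_le_E : omegaOneCenter p (pCoreOf p E) ≤ E :=
  (omegaOneCenter_le _).trans (LocalStructure.pCoreOf_le E)

theorem block_W_cases {U : Subgroup G} (hU : U ≤ omegaOneCenter p (pCoreOf p E))
    (hEU : E ≤ normalizer (U : Set G)) :
    U ≤ omegaOneCenter p (pCoreOf p E) ⊓ centralizer (E : Set G) ∨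
      omegaOneCenter p (pCoreOf p E) ≤
        U ⊔ (omegaOneCenter p (pCoreOf p E) ⊓ centralizer (E : Set G)) := by
  rcases hE.2.2.2.2 with ⟨F, _, _, n, -, -, hW, -⟩ | ⟨-, m, -, hW, -⟩
  exacts [section_SL2 hW hU hEU, section_alt hW hU hEU]

theorem block_abelian_le {A : Subgroup G} (hA : A ≤ pCoreOf p E)
    (hEA : E ≤ normalizer (A : Set G)) (hAc : A ≤ centralizer (A : Set G)) :
    A ≤ omegaOneCenter p (pCoreOf p E) := by
  rcases hE.2.2.2.2 with ⟨F, iF, iFt, n, hFn, -, -, hQ⟩ | ⟨-, m, -, -, hQ⟩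
  · rcases hQ with hQ | ⟨hp3, hS, hder, -, hcen, hcard, -⟩
    · exact hQ ▸ hA
    rcases section_SL2 hS hA hEA with h | h
    · exact h
    exfalso
    set W := omegaOneCenter p (pCoreOf p E) with hWdef
    have hcomm : pCoreOf p E ≤ centralizer (pCoreOf p E : Set G) := by
      have hgen : A ⊔ W ≤ centralizer (A : Set G) ⊓ centralizer (W : Set G) := by
        refine sup_le (le_inf hAc ?_) (le_inf ?_ ?_)
        · exact le_centralizer_iff.mpr
            ((omegaOneCenter_comm _).trans (centralizer_le hA))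
        · exact (omegaOneCenter_comm _).trans (centralizer_le hA)
        · exact (Thompson.ea_iff.mp (omegaOneCenter_ea _)).1
      refine h.trans (hgen.trans ?_)
      intro x hx
      refine mem_centralizer_iff.mpr fun y hy => ?_
      have : A ⊔ W ≤ centralizer ({x} : Set G) := by
        refine sup_le (fun a ha => ?_) (fun w hw => ?_)
        · exact mem_centralizer_singleton_iff.mpr (mem_centralizer_iff.mp hx.1 a ha)
        · exact mem_centralizer_singleton_iff.mpr (mem_centralizer_iff.mp hx.2 w hw)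
      exact mem_centralizer_singleton_iff.mp (this (h hy))
    rw [commutator_eq_bot_iff_le_centralizer.mpr hcomm] at hder
    rw [hcen, ← hder, card_bot] at hcard
    have h1 : 1 < Fintype.card F := Fintype.one_lt_card
    rw [hFn, hp3, ← hcard] at h1
    exact lt_irrefl _ h1
  · exact hQ ▸ hA

end Cfsg.Agent.Baumann
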