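import Cfsg.Agent.Baumann.Blocks
import Cfsg.Agent.LocalStructure.OmegaAction
import Cfsg.Agent.LocalStructure.ThreeSubgroup

/-!
Blocks in groups of characteristic `p`.
-/

set_option autoImplicit false
set_option linter.unusedSectionVars false
set_option linter.style.haveILetI false

namespace Cfsg.Agent.Baumann

open Subgroup Cfsg
open scoped Pointwise commutatorElement

universe u

variable {G : Type u} [Group G] [Finite G] {p : ℕ} [Fact p.Prime]
  (hG : centralizer (pCore p G : Set G) ≤ pCore p G)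
  {T : Sylow p G} {E : Subgroup G} (hE : IsBaumannBlock p (T : Subgroup G) E)

theorem omegaOneCenter_normal {X : Subgroup G} [hX : X.Normal] :
    (omegaOneCenter p X).Normal :=
  normalizer_eq_top_iff.mp (top_le_iff.mp
    ((normalizer_eq_top_iff.mpr hX).ge.trans (normalizer_le_normalizer_omegaOneCenter X)))

include hE

theorem block_baumann_le_normalizer :
    baumannSubgroupOf p (T : Subgroup G) ≤ normalizer (E : Set G) :=
  le_normalizer_of_commutator_eq hE.2.1

theorem pCore_le_normalizer_block : pCore p G ≤ normalizer (E : Set G) :=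
  le_normalizer_block T hE.1 hE.2.1 Core.pCore_isPGroup le_normalizer_of_normal
    le_normalizer_of_normal

theorem block_commutator_le (X : Subgroup G) (hX : X ≤ normalizer (E : Set G)) : ⁅X, E⁆ ≤ E := by
  rw [commutator_comm]
  exact le_normalizer_iff_commutator_le_left.mp hX

theorem block_commutator_pCore_le : ⁅pCore p G, E⁆ ≤ pCoreOf p E :=
  LocalStructure.le_pCoreOf_of_normal (block_commutator_le hE _ (pCore_le_normalizer_block hE))
    (normalizer_commutator_ge_right _ _) (Core.pCore_isPGroup.to_le (commutator_le_left _ _))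

omit hE in
theorem commutator_comm_le_pCore (E' : Subgroup G) : ⁅pCore p G, E'⁆ ≤ pCore p G :=
  commutator_le_left _ _

theorem pResidualOf_sup_pCore : pResidualOf p (E ⊔ pCore p G) = E := by
  refine le_antisymm ?_ ?_
  · rw [pResidualOf, pResidual, MonoidHom.map_closure, closure_le]
    rintro _ ⟨g, hg, rfl⟩
    exact mem_of_coprime (p := p) Core.pCore_isPGroup (pCore_le_normalizer_block hE) g.2
      (show (orderOf (g : G)).Coprime p by rw [orderOf_coe]; exact hg)
  · conv_lhs => rw [← hE.1]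
    exact Fusion.map_pResidual_mono le_sup_left

theorem block_E_le_normalizer_WE :
    E ≤ normalizer ((⁅omegaOneCenter p (pCoreOf p E), E⁆ : Subgroup G) : Set G) :=
  normalizer_commutator_ge_right _ _

theorem block_WE_le_W :
    ⁅omegaOneCenter p (pCoreOf p E), E⁆ ≤ omegaOneCenter p (pCoreOf p E) :=
  le_normalizer_iff_commutator_le_left.mp (block_le_normalizer_W hE)

include hG

theorem omegaOneCenter_sylow_le :
    omegaOneCenter p (T : Subgroup G) ≤ omegaOneCenter p (pCore p G) := by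
  refine (closure_le _).mpr fun x hx => ?_
  have hc : x ∈ centralizer (pCore p G : Set G) := centralizer_le (Core.pCore_le_sylow T) hx.1.2
  exact Thompson.mem_omegaOne ⟨hG hc, hc⟩ hx.2

theorem omegaOneCenter_sylow_le_baumann :
    omegaOneCenter p (T : Subgroup G) ≤ baumannSubgroupOf p (T : Subgroup G) :=
  le_inf (omegaOneCenter_le _) ((omegaOneCenter_comm _).trans (centralizer_le
    ((omegaOne_centerThompsonOf_le _).trans (Thompson.thompsonOf_le p _))))

/-- The commutator of `Ω₁Z(T)` with the block lies in `W` and `Ω₁Z(O_p(G))`, and covers `W / Z`. -/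
theorem exists_W0 : ∃ W₀ : Subgroup G, W₀ ≤ omegaOneCenter p (pCoreOf p E) ∧
    W₀ ≤ omegaOneCenter p (pCore p G) ∧ W₀ ≠ ⊥ ∧ W₀ ≤ ⁅W₀, E⁆ ∧
    ⁅omegaOneCenter p (pCoreOf p E), E⁆ ≤ W₀ := by
  set X := omegaOneCenter p (T : Subgroup G) with hX
  set W := omegaOneCenter p (pCoreOf p E) with hW
  have hXN : X ≤ normalizer (E : Set G) :=
    (omegaOneCenter_sylow_le_baumann hG hE).trans (block_baumann_le_normalizer hE)
  have hV : ⁅X, E⁆ ≤ omegaOneCenter p (pCore p G) := by
    haveI := omegaOneCenter_normal (p := p) (X := pCore p G)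
    exact (commutator_mono (omegaOneCenter_sylow_le hG hE) le_rfl).trans (commutator_le_left _ _)
  have hea : IsElementaryAbelian p ⁅X, E⁆ := Thompson.ea_mono (omegaOneCenter_ea _) hV
  have hEW : E ≤ normalizer ((⁅X, E⁆ : Subgroup G) : Set G) := normalizer_commutator_ge_right X E
  have hQ : ⁅X, E⁆ ≤ pCoreOf p E := LocalStructure.le_pCoreOf_of_normal
    (block_commutator_le hE X hXN) hEW (Thompson.ea_isPGroup hea)
  have hW0 : ⁅X, E⁆ ≤ W := block_abelian_le hE hQ hEW (Thompson.ea_iff.mp hea).1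
  have hself : ⁅X, E⁆ ≤ ⁅⁅X, E⁆, E⁆ :=
    commutator_le_commutator_commutator hE.1 (block_commutator_le hE X hXN)
      (Thompson.ea_isPGroup hea)
  have hne : ⁅X, E⁆ ≠ ⊥ := by rw [commutator_comm]; exact hE.2.2.2.1
  refine ⟨⁅X, E⁆, hW0, hV, hne, hself, ?_⟩
  rcases block_W_cases hE hW0 hEW with h | h
  · refine absurd (le_bot_iff.mp (hself.trans (le_of_eq ?_))) hne
    exact commutator_eq_bot_iff_le_centralizer.mpr (h.trans inf_le_right)
  refine commutator_le.mpr fun w hw e he => ?_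
  have hw' : w ∈ ((⁅X, E⁆ ⊔ (W ⊓ centralizer (E : Set G)) : Subgroup G) : Set G) := h hw
  rw [coe_mul_of_left_le_normalizer_right] at hw'
  · obtain ⟨a, ha, z, hz, rfl⟩ := hw'
    have hc : z * e = e * z := (mem_centralizer_iff.mp hz.2 e he).symm
    have heq : ⁅a * z, e⁆ = a * (e * a⁻¹ * e⁻¹) := by
      rw [commutatorElement_def, mul_inv_rev, mul_assoc a z e, hc]
      group
    rw [heq]
    exact mul_mem ha ((mem_normalizer_iff.mp (hEW he) _).mp (inv_mem ha))
  · refine (block_commutator_le hE X hXN).trans ?_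
    exact (le_centralizer_iff.mp inf_le_right).trans (centralizer_le_normalizer _)

theorem WE_le_omega : ⁅omegaOneCenter p (pCoreOf p E), E⁆ ≤ omegaOneCenter p (pCore p G) := by
  obtain ⟨W₀, -, hV, -, -, h⟩ := exists_W0 hG hE
  exact h.trans hV

theorem WE_ne_bot : ⁅omegaOneCenter p (pCoreOf p E), E⁆ ≠ ⊥ := by
  obtain ⟨W₀, hW, -, hne, hself, -⟩ := exists_W0 hG hE
  exact fun h => hne (le_bot_iff.mp (hself.trans ((commutator_mono hW le_rfl).trans h.le)))

theorem thompson_not_centralizes_WE :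
    ⁅⁅omegaOneCenter p (pCoreOf p E), E⁆, thompsonSubgroupOf p (T : Subgroup G)⁆ ≠ ⊥ := by
  set W := omegaOneCenter p (pCoreOf p E) with hW
  intro h
  have hJ : ⁅W, E⁆ ≤ omegaOne p (centerThompsonOf p (T : Subgroup G)) := by
    intro x hx
    have hxT : x ∈ (T : Subgroup G) :=
      Core.pCore_le_sylow T (omegaOneCenter_le _ (WE_le_omega hG hE hx))
    have hxp : x ^ p = 1 := (omegaOneCenter_ea _).2 x (WE_le_omega hG hE hx)
    have hxc : x ∈ centralizer (thompsonSubgroupOf p (T : Subgroup G) : Set G) :=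
      commutator_eq_bot_iff_le_centralizer.mp h hx
    obtain ⟨A, hA⟩ := Thompson.exists_maxEA p (T : Subgroup G)
    have hxA := Thompson.mem_thompson_of_centralizes (x := (⟨x, hxT⟩ : (T : Subgroup G)))
      (Subtype.ext hxp) (mem_centralizer_iff.mpr fun y hy =>
        Subtype.ext (mem_centralizer_iff.mp hxc (y : G) ⟨y, hy, rfl⟩)) A hA
    exact Thompson.mem_omegaOne ⟨⟨_, Thompson.le_thompson hA hxA, rfl⟩, hxc⟩ hxp
  have hB : ⁅baumannSubgroupOf p (T : Subgroup G), ⁅W, E⁆⁆ = ⊥ :=
    commutator_eq_bot_iff_le_centralizer.mpr (inf_le_right.trans (centralizer_le hJ))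
  have h3 := commutator_commutator_eq_bot_of_rotate (H₁ := E)
    (H₂ := baumannSubgroupOf p (T : Subgroup G)) (H₃ := ⁅W, E⁆) ?_ ?_
  · rw [hE.2.1, commutator_comm] at h3
    have hle := commutator_le_commutator_commutator (P := W) hE.1
      ((block_WE_le_W hE).trans (block_W_le_E hE))
      ((Thompson.ea_isPGroup (omegaOneCenter_ea _)).to_le (block_WE_le_W hE))
    exact WE_ne_bot hG hE (le_bot_iff.mp (hle.trans h3.le))
  · rw [hB, commutator_bot_left]
  · refine le_bot_iff.mp ?_
    refine (commutator_mono ?_ le_rfl).trans ((commutator_comm _ _).trans hB).le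
    exact le_normalizer_iff_commutator_le_left.mp (block_E_le_normalizer_WE hE)

/-- `C(⁅W, E⁆)` normalises `E` when `⁅O_p(G), E⁆ ≤ W`. -/
theorem centralizer_WE_le_normalizer_of_le
    (hQ : ⁅pCore p G, E⁆ ≤ omegaOneCenter p (pCoreOf p E)) :
    centralizer ((⁅omegaOneCenter p (pCoreOf p E), E⁆ : Subgroup G) : Set G) ≤
      normalizer (E : Set G) := by
  set WE := ⁅omegaOneCenter p (pCoreOf p E), E⁆ with hWE
  set Q₀ := pCore p G with hQ₀
  have hQE : ⁅Q₀, E⁆ ≤ WE :=
    (commutator_le_commutator_commutator hE.1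
      (block_commutator_le hE _ (pCore_le_normalizer_block hE))
      (Core.pCore_isPGroup.to_le (commutator_le_left _ _))).trans (commutator_mono hQ le_rfl)
  have hQn : ∀ (g q : G), q ∈ Q₀ → g * q * g⁻¹ ∈ Q₀ := fun g q hq =>
    (inferInstance : (pCore p G).Normal).conj_mem q hq g
  -- the elements of the centraliser stabilising `Q₀ > WE > 1`
  let R : Subgroup G :=
    { carrier := {g | g ∈ centralizer (WE : Set G) ∧ ∀ q ∈ Q₀, g * q * g⁻¹ * q⁻¹ ∈ WE}
      one_mem' := ⟨one_mem _, fun q _ => by simp⟩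
      mul_mem' := fun {g h} hg hh => ⟨mul_mem hg.1 hh.1, fun q hq => by
        have h1 := hh.2 q hq
        have h2 := hg.2 q hq
        have hc : g * (h * q * h⁻¹ * q⁻¹) = (h * q * h⁻¹ * q⁻¹) * g :=
          (mem_centralizer_iff.mp hg.1 _ h1).symm
        have e : g * h * q * (g * h)⁻¹ * q⁻¹ = g * (h * q * h⁻¹ * q⁻¹) * (q * g⁻¹ * q⁻¹) := by
          group
        rw [e, hc]
        have e2 : (h * q * h⁻¹ * q⁻¹) * g * (q * g⁻¹ * q⁻¹) =
            (h * q * h⁻¹ * q⁻¹) * (g * q * g⁻¹ * q⁻¹) := by group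
        rw [e2]
        exact mul_mem h1 h2⟩
      inv_mem' := fun {g} hg => ⟨inv_mem hg.1, fun q hq => by
        have hq' : g⁻¹ * q * g ∈ Q₀ := by simpa using hQn g⁻¹ q hq
        have h1 := inv_mem (hg.2 _ hq')
        have e : g⁻¹ * q * g⁻¹⁻¹ * q⁻¹ = (g * (g⁻¹ * q * g) * g⁻¹ * (g⁻¹ * q * g)⁻¹)⁻¹ := by group
        rw [e]
        exact h1⟩ }
  have hWEp : ∀ w ∈ WE, w ^ p = 1 := fun w hw =>
    (omegaOneCenter_ea _).2 w (block_WE_le_W hE hw)
  have hRp : IsPGroup p R := by
    rintro ⟨g, hgc, hg⟩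
    have hgp : g ^ p ∈ Q₀ := by
      refine hG (mem_centralizer_iff.mpr fun q hq => ?_)
      set w := g * q * g⁻¹ * q⁻¹ with hw
      have hcw : g * w = w * g := (mem_centralizer_iff.mp hgc w (hg q hq)).symm
      have hiter : ∀ j : ℕ, g ^ j * q = w ^ j * q * g ^ j := by
        intro j
        induction j with
        | zero => simp
        | succ j ih =>
          have hcj : g * w ^ j = w ^ j * g := (Commute.pow_right hcw j).eq
          calc g ^ (j + 1) * q = g * (g ^ j * q) := by rw [pow_succ']; group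
            _ = g * (w ^ j * q * g ^ j) := by rw [ih]
            _ = (g * w ^ j) * q * g ^ j := by group
            _ = w ^ j * (g * q) * g ^ j := by rw [hcj]; group
            _ = w ^ j * (w * q * g) * g ^ j := by rw [hw]; group
            _ = w ^ (j + 1) * q * g ^ (j + 1) := by rw [pow_succ, pow_succ']; group
      have := hiter p
      rw [hWEp w (hg q hq), one_mul] at this
      exact this.symm
    obtain ⟨k, hk⟩ := (Core.pCore_isPGroup (p := p) (G := G)) ⟨g ^ p, hgp⟩
    refine ⟨k + 1, Subtype.ext ?_⟩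
    have h2 := congrArg Subtype.val hk
    simp only [SubmonoidClass.mk_pow, OneMemClass.coe_one] at h2
    simpa [pow_succ', pow_mul] using h2
  have hnorm : ∀ n : G, n ∈ normalizer (WE : Set G) → ∀ x ∈ R, n * x * n⁻¹ ∈ R := by
    intro n hn x hx
    refine ⟨?_, fun q hq => ?_⟩
    · rw [mem_centralizer_iff]
      intro w hw
      have hw' : n⁻¹ * w * n ∈ WE := by
        have := (mem_normalizer_iff.mp (inv_mem hn) w).mp hw
        simpa using this
      have h1 := mem_centralizer_iff.mp hx.1 _ hw'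
      calc w * (n * x * n⁻¹) = n * ((n⁻¹ * w * n) * x) * n⁻¹ := by group
        _ = n * (x * (n⁻¹ * w * n)) * n⁻¹ := by rw [h1]
        _ = n * x * n⁻¹ * w := by group
    · have hq' : n⁻¹ * q * n ∈ Q₀ := by simpa using hQn n⁻¹ q hq
      have h1 := (mem_normalizer_iff.mp hn _).mp (hx.2 _ hq')
      have e : n * x * n⁻¹ * q * (n * x * n⁻¹)⁻¹ * q⁻¹ =
          n * (x * (n⁻¹ * q * n) * x⁻¹ * (n⁻¹ * q * n)⁻¹) * n⁻¹ := by group
      rw [e]; exact h1
  have hsub : ∀ N : Subgroup G, N ≤ normalizer (WE : Set G) → N ≤ normalizer (R : Set G) := by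
    intro N hN n hn
    rw [mem_normalizer_iff]
    refine fun x => ⟨hnorm n (hN hn) x, fun h => ?_⟩
    have := hnorm n⁻¹ (inv_mem (hN hn)) _ h
    simpa [mul_assoc] using this
  have hBWE : baumannSubgroupOf p (T : Subgroup G) ≤ normalizer (WE : Set G) := by
    refine LocalStructure.le_normalizer_commutator_of_le
      ((LocalStructure.le_normalizer_map_characteristic (Q := E) (block_baumann_le_normalizer hE)
        (pCore p E)).trans ?_) (block_baumann_le_normalizer hE)
    exact normalizer_le_normalizer_omegaOneCenter _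
  have hRE : R ≤ normalizer (E : Set G) := le_normalizer_block T hE.1 hE.2.1 hRp
    (hsub _ hBWE) (hsub _ (block_E_le_normalizer_WE hE))
  -- `[c, e]` lies in `R`
  have hcomm : ∀ c ∈ centralizer (WE : Set G), ∀ e ∈ E, c * e * c⁻¹ * e⁻¹ ∈ R := by
    intro c hc e he
    have hN : e ∈ normalizer (WE : Set G) := block_E_le_normalizer_WE hE he
    have heC : e * c⁻¹ * e⁻¹ ∈ centralizer (WE : Set G) := by
      rw [mem_centralizer_iff]
      intro w hw
      have hw' : e⁻¹ * w * e ∈ WE := by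
        have := (mem_normalizer_iff.mp (inv_mem hN) w).mp hw
        simpa using this
      have h1 := mem_centralizer_iff.mp (inv_mem hc) _ hw'
      calc w * (e * c⁻¹ * e⁻¹) = e * ((e⁻¹ * w * e) * c⁻¹) * e⁻¹ := by group
        _ = e * (c⁻¹ * (e⁻¹ * w * e)) * e⁻¹ := by rw [h1]
        _ = e * c⁻¹ * e⁻¹ * w := by group
    refine ⟨by
      have := mul_mem hc heC
      simpa [mul_assoc] using this, fun q hq => ?_⟩
    set w₁ := e⁻¹ * q * e * q⁻¹ with hw₁def
    have hw₁ : w₁ ∈ WE := by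
      have h1 : ⁅q, e⁻¹⁆ ∈ WE := hQE (commutator_mem_commutator hq (inv_mem he))
      have e1 : w₁ = ⁅q, e⁻¹⁆⁻¹ := by rw [hw₁def]; group
      rw [e1]; exact inv_mem h1
    set q' := c⁻¹ * q * c with hq'
    have hq'm : q' ∈ Q₀ := by simpa [hq'] using hQn c⁻¹ q hq
    set w₂ := e * (w₁ * q') * e⁻¹ * q'⁻¹ with hw₂def
    have hw₂ : w₂ ∈ WE := by
      have h1 : ⁅q', e⁆ ∈ WE := hQE (commutator_mem_commutator hq'm he)
      have e1 : w₂ = (e * w₁ * e⁻¹) * ⁅q', e⁆⁻¹ := by rw [hw₂def]; group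
      rw [e1]
      exact mul_mem ((mem_normalizer_iff.mp hN _).mp hw₁) (inv_mem h1)
    have hcw₁ : c⁻¹ * w₁ = w₁ * c⁻¹ := (mem_centralizer_iff.mp (inv_mem hc) w₁ hw₁).symm
    have hcw₂ : c * w₂ = w₂ * c := (mem_centralizer_iff.mp hc w₂ hw₂).symm
    have e2 : c * e * c⁻¹ * e⁻¹ * q * (c * e * c⁻¹ * e⁻¹)⁻¹ * q⁻¹ =
        c * e * (c⁻¹ * w₁) * q * c * e⁻¹ * c⁻¹ * q⁻¹ := by rw [hw₁def]; group
    have e3 : c * e * (w₁ * c⁻¹) * q * c * e⁻¹ * c⁻¹ * q⁻¹ =
        (c * w₂) * q' * c⁻¹ * q⁻¹ := by rw [hw₂def, hq']; group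
    rw [e2, hcw₁, e3, hcw₂, hq']
    simpa [mul_assoc] using hw₂
  have key : ∀ c ∈ centralizer (WE : Set G), ∀ x ∈ E, c * x * c⁻¹ ∈ E := by
    intro c hc
    suffices h : E ≤ E.comap (MulAut.conj c).toMonoidHom from fun x hx => h hx
    conv_lhs => rw [← hE.1]
    rw [pResidualOf, pResidual, MonoidHom.map_closure, closure_le]
    rintro _ ⟨g, hg, rfl⟩
    refine mem_of_coprime (p := p) hRp hRE (g := c * g * c⁻¹) ?_ ?_
    · have := mul_mem (mem_sup_right (S := E) (hcomm c hc g g.2)) (mem_sup_left (T := R) g.2)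
      simpa using this
    · have h1 : orderOf (MulAut.conj c (g : G)) = orderOf (g : G) := MulEquiv.orderOf_eq _ _
      change (orderOf (MulAut.conj c (g : G))).Coprime p
      rw [h1, orderOf_coe]
      exact hg
  intro c hc
  rw [mem_normalizer_iff]
  refine fun x => ⟨key c hc x, fun h => ?_⟩
  have := key c⁻¹ (inv_mem hc) _ h
  simpa [mul_assoc] using this

end Cfsg.Agent.Baumann
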