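import Cfsg.Prelude.Def_BaumannBlocks
import Cfsg.Agent.Thompson.WNormal
import Cfsg.Agent.Coprime.Basic
import Cfsg.Agent.Fusion.Residual
import Cfsg.Agent.Fusion.AbelianNormal

/-!
The Baumann subgroup of a Sylow subgroup, and the normalising lemma for blocks.
-/

set_option autoImplicit false
set_option linter.unusedSectionVars false
set_option linter.style.haveILetI false

namespace Cfsg.Agent.Baumann

open Subgroup Cfsg
open scoped Pointwise commutatorElement

universe u

variable {G : Type u} [Group G] [Finite G] {p : ℕ} [Fact p.Prime]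

/-- Membership in `O^p(E)` of an element of `E` of order prime to `p`. -/
theorem mem_pResidualOf {E : Subgroup G} {g : G} (hg : g ∈ E) (ho : (orderOf g).Coprime p) :
    g ∈ pResidualOf p E := Fusion.mem_pResidual_subgroup hg ho

/-- If `E` is normalised by the `p`-group `B`, then `O^p(EB) ≤ E`. -/
theorem mem_of_coprime {E B : Subgroup G} (hB : IsPGroup p B) (hBE : B ≤ normalizer (E : Set G))
    {g : G} (hg : g ∈ E ⊔ B) (ho : (orderOf g).Coprime p) : g ∈ E := by
  haveI : (E.subgroupOf (E ⊔ B)).Normal :=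
    normal_subgroupOf_of_le_normalizer (sup_le Subgroup.le_normalizer hBE)
  have hp : IsPGroup p (↥(E ⊔ B) ⧸ E.subgroupOf (E ⊔ B)) := by
    refine hB.of_surjective ((QuotientGroup.mk' _).comp (inclusion le_sup_right)) ?_
    intro y
    obtain ⟨⟨z, hz⟩, rfl⟩ := QuotientGroup.mk'_surjective _ y
    obtain ⟨k, hk, j, hj, rfl⟩ : ∃ k ∈ E, ∃ j ∈ B, k * j = z := by
      have h : z ∈ ((E ⊔ B : Subgroup G) : Set G) := hz
      rw [coe_mul_of_right_le_normalizer_left E B hBE] at h
      exact h
    refine ⟨⟨j, hj⟩, ?_⟩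
    change (QuotientGroup.mk _ : ↥(E ⊔ B) ⧸ E.subgroupOf (E ⊔ B)) = QuotientGroup.mk _
    rw [eq_comm, QuotientGroup.eq_iff_div_mem, Subgroup.mem_subgroupOf]
    simpa [div_eq_mul_inv, mul_assoc] using hk
  have h1 := Fusion.pResidual_le_of_isPGroup_quotient _ hp
    (Fusion.mem_pResidual_of_coprime (g := (⟨g, hg⟩ : ↥(E ⊔ B)))
      (by rwa [Subgroup.orderOf_mk]))
  exact h1

/-- `⁅E, B⁆ = E` makes `B` normalise `E`. -/
theorem le_normalizer_of_commutator_eq {E B : Subgroup G} (hEB : ⁅E, B⁆ = E) :
    B ≤ normalizer (E : Set G) :=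
  le_normalizer_iff_commutator_le_left.mpr hEB.le

/-- `Q` normalises `E` as soon as `B` and `E` normalise `Q` and `Q` normalises `B`. -/
theorem le_normalizer_of_residual {E B Q : Subgroup G} (hEr : pResidualOf p E = E)
    (hEB : ⁅E, B⁆ = E) (hB : IsPGroup p B) (hEQ : E ≤ normalizer (Q : Set G))
    (hQB : Q ≤ normalizer (B : Set G)) : Q ≤ normalizer (E : Set G) := by
  have hBE := le_normalizer_of_commutator_eq hEB
  have hBc : ∀ q ∈ Q, ∀ b ∈ B, q * b * q⁻¹ ∈ B := fun q hq b hb =>
    (mem_normalizer_iff.mp (hQB hq) b).mp hb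
  have hconj : ∀ q ∈ Q, ∀ x ∈ E ⊔ B, q * x * q⁻¹ ∈ E ⊔ B := by
    intro q hq
    suffices h : E ⊔ B ≤ (E ⊔ B).comap (MulAut.conj q).toMonoidHom from fun x hx => h hx
    refine sup_le ?_ fun j hj => mem_sup_right (hBc q hq j hj)
    conv_lhs => rw [← hEB]
    rw [commutator_le]
    intro k hk j hj
    change q * ⁅k, j⁆ * q⁻¹ ∈ E ⊔ B
    have hq' : k⁻¹ * q * k ∈ Q := by
      have := (mem_normalizer_iff.mp (hEQ (inv_mem hk)) q).mp hq
      simpa using this
    have e : q * ⁅k, j⁆ * q⁻¹ =
        k * ((k⁻¹ * q * k) * j * (k⁻¹ * q * k)⁻¹) * k⁻¹ * (q * j⁻¹ * q⁻¹) := by group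
    rw [e]
    exact mul_mem (mul_mem (mul_mem (mem_sup_left hk) (mem_sup_right (hBc _ hq' j hj)))
      (inv_mem (mem_sup_left hk))) (mem_sup_right (hBc q hq _ (inv_mem hj)))
  have key : ∀ q ∈ Q, ∀ k ∈ E, q * k * q⁻¹ ∈ E := by
    intro q hq
    suffices h : E ≤ E.comap (MulAut.conj q).toMonoidHom from fun x hx => h hx
    conv_lhs => rw [← hEr]
    rw [pResidualOf, pResidual, MonoidHom.map_closure, closure_le]
    rintro _ ⟨g, hg, rfl⟩
    refine mem_of_coprime (p := p) hB hBE (hconj q hq g (mem_sup_left g.2)) ?_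
    have h1 : orderOf (MulAut.conj q (g : G)) = orderOf (g : G) := MulEquiv.orderOf_eq _ _
    change (orderOf (MulAut.conj q (g : G))).Coprime p
    rw [h1, orderOf_coe]
    exact hg
  intro q hq
  rw [mem_normalizer_iff]
  refine fun k => ⟨key q hq k, fun h => ?_⟩
  have := key q⁻¹ (inv_mem hq) _ h
  simpa [mul_assoc] using this

theorem baumannOf_le (T : Subgroup G) : baumannSubgroupOf p T ≤ T := inf_le_left

theorem thompsonOf_le_baumannOf (T : Subgroup G) :
    thompsonSubgroupOf p T ≤ baumannSubgroupOf p T := by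
  refine le_inf (Thompson.thompsonOf_le p T) (le_centralizer_iff.mpr ?_)
  exact (Thompson.omegaOne_le p _).trans inf_le_right

theorem omegaOne_centerThompsonOf_le (T : Subgroup G) :
    omegaOne p (centerThompsonOf p T) ≤ thompsonSubgroupOf p T :=
  (Thompson.omegaOne_le p _).trans inf_le_left

theorem map_centralizer_conj (g : G) (X : Subgroup G) :
    (centralizer (X : Set G)).map (MulAut.conj g).toMonoidHom =
      centralizer ((X.map (MulAut.conj g).toMonoidHom : Subgroup G) : Set G) := by
  ext y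
  constructor
  · rintro ⟨x, hx, rfl⟩
    rw [mem_centralizer_iff]
    rintro _ ⟨a, ha, rfl⟩
    rw [← map_mul, ← map_mul, mem_centralizer_iff.mp hx a ha]
  · intro hy
    refine ⟨(MulAut.conj g).symm y, mem_centralizer_iff.mpr fun a ha => ?_,
      (MulAut.conj g).apply_symm_apply y⟩
    refine (MulAut.conj g).injective ?_
    rw [map_mul, map_mul, MulEquiv.apply_symm_apply]
    exact mem_centralizer_iff.mp hy _ ⟨a, ha, rfl⟩

theorem map_baumannOf (g : G) (T : Subgroup G) :
    (baumannSubgroupOf p T).map (MulAut.conj g).toMonoidHom =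
      baumannSubgroupOf p (T.map (MulAut.conj g).toMonoidHom) := by
  have hi : Function.Injective (MulAut.conj g).toMonoidHom := (MulAut.conj g).injective
  rw [baumannSubgroupOf, baumannSubgroupOf, centerThompsonOf, centerThompsonOf,
    map_inf _ _ _ hi, map_centralizer_conj, Thompson.omegaOne_map_of_injective hi,
    map_inf _ _ _ hi, map_centralizer_conj, Thompson.thompsonOf_map_of_injective hi]

theorem normalizer_le_normalizer_baumannOf (T : Subgroup G) :
    normalizer (T : Set G) ≤ normalizer (baumannSubgroupOf p T : Set G) := by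
  intro g hg
  rw [mem_normalizer_iff_map_conj_eq] at hg ⊢
  exact (map_baumannOf g T).trans (congrArg (baumannSubgroupOf p) hg)

/-- A Sylow subgroup containing `J(T)` has the same Thompson subgroup. -/
theorem thompsonOf_sylow_eq {T S : Sylow p G}
    (h : thompsonSubgroupOf p (T : Subgroup G) ≤ (S : Subgroup G)) :
    thompsonSubgroupOf p (S : Subgroup G) = thompsonSubgroupOf p (T : Subgroup G) := by
  have hle : thompsonSubgroupOf p (T : Subgroup G) ≤ thompsonSubgroupOf p (S : Subgroup G) := by
    refine Thompson.thompsonOf_le_iff.mpr fun A hA hea hmax => Thompson.le_thompsonOf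
      ((Thompson.le_thompsonOf hA hea hmax).trans h) hea fun B hB hBea => ?_
    exact (Thompson.maxEA_of_sylow T hA hea hmax).2 B hBea
  obtain ⟨g, hg⟩ := MulAction.exists_smul_eq G T S
  have hS : (S : Subgroup G) = (T : Subgroup G).map (MulAut.conj g).toMonoidHom := by
    rw [← hg, Sylow.coe_subgroup_smul, Coprime.conj_smul_eq_map]
  refine (eq_of_le_of_card_ge hle (le_of_eq ?_)).symm
  rw [hS, ← Thompson.thompsonOf_map_of_injective (f := (MulAut.conj g).toMonoidHom)
      (MulAut.conj g).injective,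
    card_map_of_injective (MulAut.conj g).injective]

/-- A Sylow subgroup containing `B(T)` has the same Baumann subgroup. -/
theorem baumannOf_sylow_eq {T S : Sylow p G}
    (h : baumannSubgroupOf p (T : Subgroup G) ≤ (S : Subgroup G)) :
    baumannSubgroupOf p (S : Subgroup G) = baumannSubgroupOf p (T : Subgroup G) := by
  have hJ := thompsonOf_sylow_eq ((thompsonOf_le_baumannOf (T : Subgroup G)).trans h)
  have hle : baumannSubgroupOf p (T : Subgroup G) ≤ baumannSubgroupOf p (S : Subgroup G) := by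
    refine le_inf h (le_trans inf_le_right (le_of_eq ?_))
    rw [centerThompsonOf, centerThompsonOf, hJ]
  obtain ⟨g, hg⟩ := MulAction.exists_smul_eq G T S
  have hS : (S : Subgroup G) = (T : Subgroup G).map (MulAut.conj g).toMonoidHom := by
    rw [← hg, Sylow.coe_subgroup_smul, Coprime.conj_smul_eq_map]
  refine (eq_of_le_of_card_ge hle (le_of_eq ?_)).symm
  rw [hS, ← map_baumannOf, card_map_of_injective (MulAut.conj g).injective]

theorem isPGroup_baumannOf (T : Sylow p G) : IsPGroup p (baumannSubgroupOf p (T : Subgroup G)) :=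
  T.2.to_le (baumannOf_le _)

/-- A `p`-group normalised by `B(T)` normalises `B(T)`. -/
theorem le_normalizer_baumannOf (T : Sylow p G) {Q : Subgroup G} (hQ : IsPGroup p Q)
    (hBQ : baumannSubgroupOf p (T : Subgroup G) ≤ normalizer (Q : Set G)) :
    Q ≤ normalizer (baumannSubgroupOf p (T : Subgroup G) : Set G) := by
  obtain ⟨S, hS⟩ := ((isPGroup_baumannOf T).to_sup_of_normal_right' hQ hBQ).exists_le_sylow
  rw [← baumannOf_sylow_eq (le_sup_left.trans hS)]
  exact (le_sup_right.trans hS).trans
    (Subgroup.le_normalizer.trans (normalizer_le_normalizer_baumannOf _))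

/-- A `p`-group normalised by `B(T)` and by a block normalises the block. -/
theorem le_normalizer_block (T : Sylow p G) {E Q : Subgroup G}
    (hEr : pResidualOf p E = E) (hEB : ⁅E, baumannSubgroupOf p (T : Subgroup G)⁆ = E)
    (hQ : IsPGroup p Q) (hBQ : baumannSubgroupOf p (T : Subgroup G) ≤ normalizer (Q : Set G))
    (hEQ : E ≤ normalizer (Q : Set G)) : Q ≤ normalizer (E : Set G) :=
  le_normalizer_of_residual hEr hEB (isPGroup_baumannOf T) hEQ (le_normalizer_baumannOf T hQ hBQ)

end Cfsg.Agent.Baumann
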